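import Cfsg.Agent.RankTwoOdd.Presentation

/-!
# Blackburn: `p`-groups of rank at most two, `p` odd
-/

namespace CfsgLib.RankTwoOdd

open Subgroup
open scoped commutatorElement

set_option linter.unusedSectionVars false
set_option linter.style.haveILetI false

universe u

variable {G : Type u} [Group G] [Finite G] {p : ℕ} [hp : Fact p.Prime]

/-- A rank two `p`-group is `p`-central and metacyclic, or has a `Setup`. -/
theorem metacyclic_or_setup (hp2 : p ≠ 2) (hG : IsPGroup p G) (hrk : Cfsg.PRankLE p 2 G) :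
    Cfsg.IsMetacyclic G ∨ Nonempty (Setup p G) := by
  obtain ⟨B, -, hBn, hB, hmax⟩ := CfsgLib.OddOrder.BG4.exists_maximalNormalElem (R := G)
    (B₀ := ⊥) (CfsgLib.OddOrder.BG4.isElementaryAbelian_bot (p := p))
  haveI := hBn
  have hBab := hB.1
  have hcard : Nat.card B ≤ p ^ 2 := hrk B hB.1 hB.2
  have hmem : ∀ x ∈ centralizer (B : Set G), x ^ p = 1 → x ∈ B := fun x hx hxp =>
    CfsgLib.OddOrder.BG4.mem_of_commute_maximalNormalElem hp2 hG hB hmax hx hxp
  by_cases htop : centralizer (B : Set G) = ⊤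
  · left
    have hpc : PCentral p G := fun x hx y =>
      ((htop.ge (mem_top y)) x (hmem x (htop.ge (mem_top x)) hx))
    refine isMetacyclic_of_pCentral hp2 hG hpc (le_trans ?_ hcard)
    exact Nat.card_le_card_of_injective
      (fun x => (⟨(x : G), hmem _ (htop.ge (mem_top _)) x.2⟩ : B))
      fun a b hab => Subtype.ext (by simpa using congrArg Subtype.val hab)
  right
  have hidx : (centralizer (B : Set G)).index = p := by
    have hle := CfsgLib.OddOrder.BG4.index_centralizer_le hG hB.2 hcard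
    obtain ⟨j, hj⟩ := IsPGroup.index hG (centralizer (B : Set G))
    have hj1 : j ≤ 1 := by
      have : p ^ j ≤ p ^ 1 := by rw [← hj, pow_one]; exact hle
      exact (Nat.pow_le_pow_iff_right hp.out.one_lt).mp this
    have hj0 : j ≠ 0 := fun e => htop (index_eq_one.mp (by rw [hj, e, pow_zero]))
    rw [hj, show j = 1 by omega, pow_one]
  -- `B` is not central
  have hBc : ¬ B ≤ center G := fun hle => htop (top_unique fun x _ => fun b hb =>
    ((mem_center_iff.mp (hle hb)) x).symm)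
  have hBne : B ≠ ⊥ := fun e => hBc (e ▸ bot_le)
  obtain ⟨c, hcB, hcc, hco⟩ := CfsgLib.OddOrder.BG4.exists_central_orderOf_prime hG hBne
  have hclt : zpowers c < B := lt_of_le_of_ne (zpowers_le.mpr hcB)
    fun e => hBc (e ▸ zpowers_le.mpr hcc)
  have hB2 : Nat.card B = p ^ 2 := by
    obtain ⟨j, hj⟩ := CfsgLib.OddOrder.BG4.card_elementary_eq_pow (A := B) hB.2
    have h1 : p ^ 1 < p ^ j := by
      rw [← hj, pow_one, ← hco, ← Nat.card_zpowers]
      exact Set.ncard_lt_ncard (SetLike.coe_ssubset_coe.mpr hclt) (Set.toFinite _)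
    have h2 : p ^ j ≤ p ^ 2 := hj ▸ hcard
    have := (Nat.pow_lt_pow_iff_right hp.out.one_lt).mp h1
    have := (Nat.pow_le_pow_iff_right hp.out.one_lt).mp h2
    rw [hj, show j = 2 by omega]
  refine ⟨⟨B, c, hG, hp2, hBn, hB2, fun x hx => fun y hy => ?_, hmem, hB.2, hidx, hcB,
    fun g => (mem_center_iff.mp hcc g).symm, hco, fun e he hcen => ?_⟩⟩
  · exact setLike_mul_comm (s := B) hy hx
  · by_contra hne
    have hsub : B ⊓ center G = B := by
      refine Subgroup.eq_of_le_of_card_ge inf_le_left ?_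
      have hlt : zpowers c < B ⊓ center G := lt_of_le_of_ne
        (le_inf hclt.le (zpowers_le.mpr hcc))
        fun e' => hne (e'.ge ⟨he, mem_center_iff.mpr fun g => (hcen g).eq.symm⟩)
      obtain ⟨j, hj⟩ := CfsgLib.OddOrder.BG4.card_elementary_eq_pow
        (A := B ⊓ center G) fun a ha => hB.2 a ha.1
      have h1 : p ^ 1 < p ^ j := by
        rw [← hj, pow_one, ← hco, ← Nat.card_zpowers]
        exact Set.ncard_lt_ncard (SetLike.coe_ssubset_coe.mpr hlt) (Set.toFinite _)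
      have := (Nat.pow_lt_pow_iff_right hp.out.one_lt).mp h1
      rw [hB2, hj]
      exact Nat.pow_le_pow_right hp.out.pos (by omega)
    exact hBc (hsub ▸ inf_le_right)

/-- Blackburn's classification of `p`-groups of rank at most two, `p` odd. -/
theorem blackburn (hp2 : p ≠ 2) {n : ℕ} (hn : Nat.card G = p ^ n) (hrk : Cfsg.PRankLE p 2 G) :
    Cfsg.IsMetacyclic G ∨
    (3 ≤ n ∧ ∃ x y z : G, closure ({x, y, z} : Set G) = ⊤ ∧ x ^ p = 1 ∧ y ^ p = 1 ∧
        z ^ p ^ (n - 2) = 1 ∧ x * z = z * x ∧ y * z = z * y ∧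
        x⁻¹ * y * x = y * z ^ p ^ (n - 3)) ∨
    (4 ≤ n ∧ ∃ (s : ℕ) (x y z : G), (s = 1 ∨ ¬ IsSquare (s : ZMod p)) ∧
        closure ({x, y, z} : Set G) = ⊤ ∧ x ^ p = 1 ∧ y ^ p = 1 ∧ z ^ p ^ (n - 2) = 1 ∧
        y * z = z * y ∧ x⁻¹ * y * x = y * z ^ (s * p ^ (n - 3)) ∧ x⁻¹ * z * x = y * z) ∨
    (p = 3 ∧ 2 ≤ n ∧ (⊤ : Subgroup G).lowerCentralSeries (n - 2) ≠ ⊥) := by
  have hG : IsPGroup p G := IsPGroup.of_card hn
  rcases metacyclic_or_setup hp2 hG hrk with h | ⟨⟨S⟩⟩
  · exact Or.inl h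
  by_cases hex : ∃ a, a ∉ S.K ∧ a ^ p = 1
  · obtain ⟨a, haK, ha⟩ := hex
    by_cases h2 : S.O 2 ≤ S.P 1
    · rcases S.narrow haK ha h2 hn with h | h
      · exact Or.inr (Or.inl h)
      · exact Or.inr (Or.inr (Or.inl h))
    · obtain ⟨y, hy, hyP⟩ := SetLike.not_le_iff_exists.mp h2
      obtain ⟨h3, hT⟩ := S.wide haK ha hy hyP
      exact Or.inr (Or.inr (Or.inr ⟨h3, S.maximal_class hT hn⟩))
  · push Not at hex
    rcases S.metacyclic_or hex with h | ⟨h3, hT⟩
    · exact Or.inl h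
    · exact Or.inr (Or.inr (Or.inr ⟨h3, S.maximal_class hT hn⟩))

end CfsgLib.RankTwoOdd
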