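import Cfsg.Agent.RankTwoOdd.PCentral

/-!
# The two filtrations of the centraliser of a normal subgroup of type `(p, p)`

In a `p`-group `G` of rank two let `E` be a noncentral normal elementary abelian subgroup of order
`p²`, `K` its centraliser and `C = E ∩ Z(G)`.  We filter `K` by `O l = {x | x ^ p ^ l = 1}` and
`P l = {x | x ^ p ^ l ∈ C}`.
-/

namespace CfsgLib.RankTwoOdd

open Subgroup
open scoped commutatorElement

set_option linter.unusedSectionVars false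

universe u

/-- The set-up. -/
structure Setup (p : ℕ) (G : Type u) [Group G] where
  E : Subgroup G
  c : G
  hG : IsPGroup p G
  hp2 : p ≠ 2
  enormal : E.Normal
  ecard : Nat.card E = p ^ 2
  le_centralizer : E ≤ centralizer (E : Set G)
  mem_E : ∀ x ∈ centralizer (E : Set G), x ^ p = 1 → x ∈ E
  pow_E : ∀ e ∈ E, e ^ p = 1
  index_eq : (centralizer (E : Set G)).index = p
  cmem : c ∈ E
  c_central : ∀ g, Commute c g
  c_order : orderOf c = p
  cen_E : ∀ e ∈ E, (∀ g, Commute e g) → e ∈ zpowers c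

namespace Setup

variable {p : ℕ} {G : Type u} [Group G] [Finite G] [hp : Fact p.Prime] (S : Setup p G)

/-- The centraliser of `E`. -/
def K : Subgroup G := centralizer (S.E : Set G)

/-- The central part of `E`. -/
def C : Subgroup G := zpowers S.c

instance K_normal : S.K.Normal := by
  haveI := S.enormal
  exact inferInstanceAs (centralizer (S.E : Set G)).Normal

theorem E_le_K : S.E ≤ S.K := S.le_centralizer

theorem C_le_E : S.C ≤ S.E := zpowers_le.mpr S.cmem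

theorem C_central {x : G} (hx : x ∈ S.C) (g : G) : Commute x g := by
  obtain ⟨k, rfl⟩ := mem_zpowers_iff.mp hx
  exact (S.c_central g).zpow_left k

theorem card_C : Nat.card S.C = p := by rw [C, Nat.card_zpowers, S.c_order]

theorem commute_E_K {e k : G} (he : e ∈ S.E) (hk : k ∈ S.K) : Commute e k := hk e he

theorem pCentral : PCentral p S.K := by
  intro x hx y
  have h : ((x : G)) ^ p = 1 := by simpa using congrArg Subtype.val hx
  exact Subtype.ext (S.commute_E_K (S.mem_E x x.2 h) y.2)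

theorem pGroup_K : IsPGroup p S.K := S.hG.to_subgroup _

theorem exact_pow {x y : G} {m : ℕ} (hx : x ∈ S.K) (hy : y ∈ S.K) (h : y ^ p ^ (m + 1) = 1) :
    (x * y) ^ p ^ m = x ^ p ^ m * y ^ p ^ m := by
  have := mul_pow_exact S.hp2 S.pGroup_K S.pCentral (x := ⟨x, hx⟩) (y := ⟨y, hy⟩) (m := m)
    (Subtype.ext (by simpa using h))
  simpa using congrArg Subtype.val this

theorem exact_pow' {x y : G} {m : ℕ} (hx : x ∈ S.K) (hy : y ∈ S.K) (h : y ^ p ^ (m + 1) = 1) :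
    (y * x) ^ p ^ m = y ^ p ^ m * x ^ p ^ m := by
  have := mul_pow_exact' S.hp2 S.pGroup_K S.pCentral (x := ⟨x, hx⟩) (y := ⟨y, hy⟩) (m := m)
    (Subtype.ext (by simpa using h))
  simpa using congrArg Subtype.val this

/-- Elements of `K` killed by `p ^ l`. -/
def O (l : ℕ) : Subgroup G where
  carrier := {x | x ∈ S.K ∧ x ^ p ^ l = 1}
  one_mem' := ⟨one_mem _, one_pow _⟩
  mul_mem' := fun {a b} ha hb => ⟨mul_mem ha.1 hb.1, by
    have := mul_pow_eq_one S.hp2 S.pGroup_K S.pCentral (x := ⟨a, ha.1⟩) (y := ⟨b, hb.1⟩) (l := l)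
      (Subtype.ext (by simpa using ha.2)) (Subtype.ext (by simpa using hb.2))
    simpa using congrArg Subtype.val this⟩
  inv_mem' := fun {a} ha => ⟨inv_mem ha.1, by rw [inv_pow, ha.2, inv_one]⟩

theorem mem_O {l : ℕ} {x : G} : x ∈ S.O l ↔ x ∈ S.K ∧ x ^ p ^ l = 1 := Iff.rfl

theorem pow_C {x : G} (hx : x ∈ S.C) : x ^ p = 1 := S.pow_E x (S.C_le_E hx)

/-- Elements of `K` whose `p ^ l`-th power lies in `C`. -/
def P (l : ℕ) : Subgroup G where
  carrier := {x | x ∈ S.K ∧ x ^ p ^ l ∈ S.C}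
  one_mem' := ⟨one_mem _, by simp⟩
  mul_mem' := fun {a b} ha hb => ⟨mul_mem ha.1 hb.1, by
    rw [S.exact_pow ha.1 hb.1 (by rw [pow_succ, pow_mul, S.pow_C hb.2])]
    exact mul_mem ha.2 hb.2⟩
  inv_mem' := fun {a} ha => ⟨inv_mem ha.1, by rw [inv_pow]; exact inv_mem ha.2⟩

theorem mem_P {l : ℕ} {x : G} : x ∈ S.P l ↔ x ∈ S.K ∧ x ^ p ^ l ∈ S.C := Iff.rfl

theorem O_le_P (l : ℕ) : S.O l ≤ S.P l := fun x hx => ⟨hx.1, by rw [hx.2]; exact one_mem _⟩

theorem P_le_O (l : ℕ) : S.P l ≤ S.O (l + 1) :=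
  fun x hx => ⟨hx.1, by rw [pow_succ, pow_mul, S.pow_C hx.2]⟩

theorem O_mono {l m : ℕ} (h : l ≤ m) : S.O l ≤ S.O m := fun x hx => ⟨hx.1, by
  obtain ⟨j, rfl⟩ := Nat.le.dest h
  rw [pow_add, pow_mul, hx.2, one_pow]⟩

theorem mem_O_zero {x : G} (hx : x ∈ S.O 0) : x = 1 := by simpa using hx.2

theorem mem_O_one {x : G} : x ∈ S.O 1 ↔ x ∈ S.E := by
  constructor
  · exact fun hx => S.mem_E x hx.1 (by simpa using hx.2)
  · exact fun hx => ⟨S.E_le_K hx, by simpa using S.pow_E x hx⟩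

theorem mem_P_zero {x : G} : x ∈ S.P 0 ↔ x ∈ S.C := by
  constructor
  · exact fun hx => by simpa using hx.2
  · exact fun hx => ⟨S.E_le_K (S.C_le_E hx), by simpa using hx⟩

theorem exists_mem_O {x : G} (hx : x ∈ S.K) : ∃ l, x ∈ S.O l := by
  obtain ⟨l, hl⟩ := S.hG x
  exact ⟨l, hx, hl⟩

instance O_normal (l : ℕ) : (S.O l).Normal :=
  ⟨fun x hx g => ⟨S.K_normal.conj_mem x hx.1 g, by rw [conj_pow, hx.2]; group⟩⟩

instance P_normal (l : ℕ) : (S.P l).Normal :=
  ⟨fun x hx g => ⟨S.K_normal.conj_mem x hx.1 g, by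
    rw [conj_pow, ← (S.C_central hx.2 g).eq, mul_inv_cancel_right]; exact hx.2⟩⟩

theorem comm_mem {N : Subgroup G} [hN : N.Normal] {x : G} (hx : x ∈ N) (g : G) : ⁅g, x⁆ ∈ N := by
  rw [commutatorElement_def]
  exact mul_mem (hN.conj_mem x hx g) (inv_mem hx)

theorem comm_mem_K {x : G} (hx : x ∈ S.K) (g : G) : ⁅g, x⁆ ∈ S.K := comm_mem hx g

theorem conj_eq (g x : G) : g * x * g⁻¹ = ⁅g, x⁆ * x := by rw [commutatorElement_def]; group

/-- Powers of commutators. -/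
theorem comm_pow_eq {g x : G} {m : ℕ} (hx : x ∈ S.K) (h : ⁅g, x⁆ ^ p ^ (m + 1) = 1) :
    ⁅g, x⁆ ^ p ^ m = ⁅g, x ^ p ^ m⁆ := by
  have h1 := S.exact_pow' hx (S.comm_mem_K hx g) h
  rw [← conj_eq, conj_pow] at h1
  rw [commutatorElement_def g (x ^ p ^ m), h1, mul_inv_cancel_right]

/-- `E / C` is central. -/
theorem comm_E {e : G} (he : e ∈ S.E) (g : G) : ⁅g, e⁆ ∈ S.C := by
  haveI := S.enormal
  haveI hCn : S.C.Normal := ⟨fun x hx g => by
    rw [← (S.C_central hx g).eq, mul_inv_cancel_right]; exact hx⟩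
  set Eb := S.E.map (QuotientGroup.mk' S.C) with hEb
  haveI : Eb.Normal := S.enormal.map _ (QuotientGroup.mk'_surjective S.C)
  have h1 : Nat.card Eb * p = p ^ 2 := by
    have := Subgroup.card_mul_index (S.C.subgroupOf S.E)
    rw [Nat.card_congr (subgroupOfEquivOfLe S.C_le_E).toEquiv, S.card_C, S.ecard] at this
    rw [← this, mul_comm]
    congr 1
    rw [hEb, ← relIndex_bot_left (S.E.map _), ← Subgroup.map_bot (QuotientGroup.mk' S.C),
      relIndex_map_map, QuotientGroup.ker_mk', bot_sup_eq, sup_eq_left.mpr S.C_le_E]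
    rfl
  have hcard : Nat.card Eb = p := Nat.eq_of_mul_eq_mul_right hp.out.pos (h1.trans (sq p))
  rw [← QuotientGroup.eq_one_iff, ← QuotientGroup.mk'_apply, map_commutatorElement,
    commutatorElement_eq_one_iff_mul_comm]
  exact mem_center_iff.mp
    (CfsgLib.OddOrder.BG4.le_center_of_normal_card_prime (S.hG.to_quotient S.C) hcard
      (mem_map_of_mem _ he)) _

/-- A proper overgroup of `K` is everything. -/
theorem eq_top_of_K_le {H : Subgroup G} (hle : S.K ≤ H) {g : G} (hg : g ∈ H) (hgK : g ∉ S.K) :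
    H = ⊤ := by
  have h : H.index ∣ p := S.index_eq ▸ index_dvd_of_le hle
  rcases (Nat.dvd_prime hp.out).mp h with h' | h'
  · exact index_eq_one.mp h'
  · exact absurd ((Subgroup.eq_of_le_of_card_ge hle (by
      have h1 := card_mul_index H
      have h2 : Nat.card S.K * S.K.index = Nat.card G := card_mul_index S.K
      rw [show S.K.index = p from S.index_eq, ← h1, h'] at h2
      exact (Nat.eq_of_mul_eq_mul_right hp.out.pos h2).ge)).symm ▸ hg) hgK

/-- An element outside `K` moves every element of `E` outside `C`. -/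
theorem comm_E_ne {e g : G} (he : e ∈ S.E) (heC : e ∉ S.C) (hg : g ∉ S.K) : ⁅g, e⁆ ≠ 1 := by
  intro h
  refine heC (S.cen_E e he fun x => ?_)
  have htop : centralizer ({e} : Set G) = ⊤ := S.eq_top_of_K_le (H := centralizer {e})
    (fun k hk => mem_centralizer_singleton_iff.mpr (S.commute_E_K he hk).eq.symm)
    (g := g) (mem_centralizer_singleton_iff.mpr (commutatorElement_eq_one_iff_mul_comm.mp h)) hg
  exact (mem_centralizer_singleton_iff.mp (htop.ge (mem_top x))).symm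

theorem R1 {l : ℕ} {x : G} (hx : x ∈ S.O (l + 1)) (g : G) : ⁅g, x⁆ ∈ S.P l := by
  refine ⟨S.comm_mem_K hx.1 g, ?_⟩
  rw [S.comm_pow_eq hx.1 (comm_mem (N := S.O (l + 1)) hx g).2]
  exact S.comm_E (S.mem_E _ (pow_mem hx.1 _) (by rw [← pow_mul, ← pow_succ]; exact hx.2)) g

theorem R2 {l : ℕ} {x g : G} (hx : x ∈ S.O (l + 1)) (hxP : x ∉ S.P l) (hg : g ∉ S.K) :
    ⁅g, x⁆ ∉ S.O l := by
  intro h
  refine S.comm_E_ne (S.mem_E _ (pow_mem hx.1 _) (by rw [← pow_mul, ← pow_succ]; exact hx.2))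
    (fun hC => hxP ⟨hx.1, hC⟩) hg ?_
  rw [← S.comm_pow_eq hx.1 (comm_mem (N := S.O (l + 1)) hx g).2]
  exact h.2

theorem R3 {l : ℕ} {x : G} (hx : x ∈ S.P l) (g : G) : ⁅g, x⁆ ∈ S.O l := by
  refine ⟨S.comm_mem_K hx.1 g, ?_⟩
  rw [S.comm_pow_eq hx.1 (comm_mem (N := S.O (l + 1)) (S.P_le_O l hx) g).2,
    commutatorElement_eq_one_iff_commute]
  exact (S.C_central hx.2 g).symm

/-- `[P (l+1), g]` is governed by `[P 1, g]`. -/
theorem R4 {l : ℕ} {x : G} (hx : x ∈ S.P (l + 1)) (g : G) :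
    x ^ p ^ l ∈ S.P 1 ∧ (⁅g, x⁆ ∈ S.P l ↔ ⁅g, x ^ p ^ l⁆ ∈ S.C) := by
  refine ⟨⟨pow_mem hx.1 _, by rw [pow_one, ← pow_mul, ← pow_succ]; exact hx.2⟩, ?_⟩
  rw [mem_P, S.comm_pow_eq hx.1 (S.R3 hx g).2]
  exact ⟨fun h => h.2, fun h => ⟨S.comm_mem_K hx.1 g, h⟩⟩

end Setup

end CfsgLib.RankTwoOdd
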