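import Cfsg.Agent.OddOrder.BG4.Metacyclic
import Cfsg.Agent.RegularPGroups.Basic

/-!
# `p`-central groups (`p` odd)

A `p`-group all of whose elements of order `p` are central behaves like an abelian group with
respect to the power maps.
-/

namespace CfsgLib.RankTwoOdd

open Subgroup
open scoped commutatorElement

set_option linter.unusedSectionVars false

universe u

/-- All elements of order dividing `p` are central. -/
def PCentral (p : ℕ) (K : Type*) [Group K] : Prop :=
  ∀ x : K, x ^ p = 1 → ∀ y, Commute x y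

variable {K : Type u} [Group K] [Finite K] {p : ℕ} [hp : Fact p.Prime]

/-- Class two with commutator of order dividing `p`: the `p`-th power is multiplicative. -/
theorem mul_pow_of_comm (hp2 : p ≠ 2) (h : PCentral p K) {x y : K} (hc : ⁅y, x⁆ ^ p = 1) :
    (x * y) ^ p = x ^ p * y ^ p := by
  rw [CfsgLib.OddOrder.Stab.mul_pow_of_commutator_central (h _ hc)]
  obtain ⟨k, hk⟩ := hp.out.dvd_choose_self (k := 2) (by norm_num)
    (lt_of_le_of_ne hp.out.two_le (Ne.symm hp2))
  rw [hk, pow_mul, hc, one_pow, mul_one]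

/-- If `x ^ p` is central then all commutators with `x` have order dividing `p`. -/
theorem comm_pow_of_central (hp2 : p ≠ 2) (hK : IsPGroup p K) (h : PCentral p K) {x : K}
    (hx : ∀ z, Commute (x ^ p) z) (y : K) : ⁅x, y⁆ ^ p = 1 := by
  suffices H : ∀ n : ℕ, ∀ x y : K, Nat.card (CfsgLib.RegularPGroups.gen x y) = n →
      (∀ z, Commute (x ^ p) z) → ⁅x, y⁆ ^ p = 1 from H _ x y rfl hx
  intro n
  induction n using Nat.strongRecOn with
  | _ n ih =>
    intro x y hn hx
    by_cases hc : Commute x y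
    · rw [commutatorElement_eq_one_iff_commute.mpr hc, one_pow]
    set x' := y * x * y⁻¹ with hx'
    have hx'mem : x' ∈ zpowers x ⊔ CfsgLib.RegularPGroups.der x y := by
      have : x' = ⁅y, x⁆ * x := by rw [hx', commutatorElement_def]; group
      rw [this]
      exact mul_mem (mem_sup_right (CfsgLib.RegularPGroups.commutatorElement_mem_der
        (CfsgLib.RegularPGroups.right_mem_gen x y) (CfsgLib.RegularPGroups.left_mem_gen x y)))
        (mem_sup_left (mem_zpowers x))
    have hlt := CfsgLib.RegularPGroups.card_gen_lt hK hc (CfsgLib.RegularPGroups.left_mem_gen x y)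
      hx'mem (mem_sup_left (mem_zpowers x))
    have hx'p : x' ^ p = x ^ p := by
      rw [hx', conj_pow, ← (hx y).eq, mul_inv_cancel_right]
    have hz := ih _ (hn ▸ hlt) x' x rfl (fun z => by rw [hx'p]; exact hx z)
    have e : ⁅x, y⁆ = x * x'⁻¹ := by rw [hx', commutatorElement_def]; group
    have hz2 : ⁅x'⁻¹, x⁆ ^ p = 1 := by
      have e2 : ⁅x'⁻¹, x⁆ = x'⁻¹ * ⁅x', x⁆⁻¹ * x'⁻¹⁻¹ := by simp only [commutatorElement_def]; group
      rw [e2, conj_pow, inv_pow, hz]
      group
    rw [e, mul_pow_of_comm hp2 h hz2, inv_pow, hx'p, mul_inv_cancel]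

/-- The elements killed by `p`. -/
def omega (h : PCentral p K) : Subgroup K where
  carrier := {x | x ^ p = 1}
  one_mem' := one_pow p
  mul_mem' := fun {a b} (ha : a ^ p = 1) (hb : b ^ p = 1) => show (a * b) ^ p = 1 by
    rw [(h a ha b).mul_pow, ha, hb, one_mul]
  inv_mem' := fun {a} (ha : a ^ p = 1) => show a⁻¹ ^ p = 1 by simp [ha]

theorem mem_omega {h : PCentral p K} {x : K} : x ∈ omega h ↔ x ^ p = 1 := Iff.rfl

instance omega_normal (h : PCentral p K) : (omega h).Normal :=
  ⟨fun n hn g => by rw [← (h n hn g).eq, mul_inv_cancel_right]; exact hn⟩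

/-- The quotient by the elements of order `p` is again `p`-central. -/
theorem pCentral_quotient (hp2 : p ≠ 2) (hK : IsPGroup p K) (h : PCentral p K) :
    PCentral p (K ⧸ omega h) := by
  intro a ha b
  obtain ⟨x, rfl⟩ := QuotientGroup.mk_surjective a
  obtain ⟨y, rfl⟩ := QuotientGroup.mk_surjective b
  rw [← QuotientGroup.mk_pow, QuotientGroup.eq_one_iff, mem_omega] at ha
  rw [← commutatorElement_eq_one_iff_commute]
  change QuotientGroup.mk' (omega h) ⁅x, y⁆ = 1
  rw [QuotientGroup.mk'_apply, QuotientGroup.eq_one_iff, mem_omega]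
  exact comm_pow_of_central hp2 hK h (h _ ha) y

theorem mk_pow_eq_one_iff (h : PCentral p K) {x : K} {m : ℕ} :
    ((x : K ⧸ omega h) ^ p ^ m = 1) ↔ x ^ p ^ (m + 1) = 1 := by
  rw [← QuotientGroup.mk_pow, QuotientGroup.eq_one_iff, mem_omega, ← pow_mul, ← pow_succ]

/-- Commutators lower the order. -/
theorem comm_pow (hp2 : p ≠ 2) {l : ℕ} : ∀ {K : Type u} [Group K] [Finite K],
    IsPGroup p K → PCentral p K → ∀ {x : K}, x ^ p ^ (l + 1) = 1 → ∀ y : K, ⁅x, y⁆ ^ p ^ l = 1 := by
  induction l with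
  | zero =>
    intro K _ _ _ h x hx y
    rw [pow_zero, pow_one, commutatorElement_eq_one_iff_commute]
    exact h x (by simpa using hx) y
  | succ l ih =>
    intro K _ _ hK h x hx y
    have := ih (hK.to_quotient (omega h)) (pCentral_quotient hp2 hK h)
      ((mk_pow_eq_one_iff h).mpr hx) (y : K ⧸ omega h)
    exact (mk_pow_eq_one_iff h).mp this

/-- The elements killed by `p ^ l` are closed under multiplication. -/
theorem mul_pow_eq_one (hp2 : p ≠ 2) {l : ℕ} : ∀ {K : Type u} [Group K] [Finite K],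
    IsPGroup p K → PCentral p K → ∀ {x y : K}, x ^ p ^ l = 1 → y ^ p ^ l = 1 →
      (x * y) ^ p ^ l = 1 := by
  induction l with
  | zero =>
    intro K _ _ _ _ x y hx hy
    simp_all
  | succ l ih =>
    intro K _ _ hK h x y hx hy
    have := ih (hK.to_quotient (omega h)) (pCentral_quotient hp2 hK h)
      ((mk_pow_eq_one_iff h).mpr hx) ((mk_pow_eq_one_iff h).mpr hy)
    exact (mk_pow_eq_one_iff h).mp this

/-- An element killed by `p ^ (m + 1)` may be split off from a `p ^ m`-th power. -/
theorem mul_pow_exact (hp2 : p ≠ 2) {m : ℕ} : ∀ {K : Type u} [Group K] [Finite K],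
    IsPGroup p K → PCentral p K → ∀ {x y : K}, y ^ p ^ (m + 1) = 1 →
      (x * y) ^ p ^ m = x ^ p ^ m * y ^ p ^ m := by
  induction m with
  | zero =>
    intro K _ _ _ _ x y _
    simp
  | succ m ih =>
    intro K _ _ hK h x y hy
    have := ih (hK.to_quotient (omega h)) (pCentral_quotient hp2 hK h) (x := (x : K ⧸ omega h))
      ((mk_pow_eq_one_iff h).mpr hy)
    rw [← QuotientGroup.mk_mul, ← QuotientGroup.mk_pow, ← QuotientGroup.mk_pow,
      ← QuotientGroup.mk_pow, ← QuotientGroup.mk_mul, QuotientGroup.eq] at this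
    set X := x ^ p ^ m
    set Y := y ^ p ^ m with hY
    set w := ((x * y) ^ p ^ m)⁻¹ * (X * Y) with hwdef
    have hw : w ^ p = 1 := this
    have hXY : (x * y) ^ p ^ m = X * (Y * w⁻¹) := by rw [hwdef]; group
    have hYp : (Y * w⁻¹) ^ p = y ^ p ^ (m + 1) := by
      rw [((h _ hw Y).symm.inv_right).mul_pow, inv_pow, hw, inv_one, mul_one, hY, ← pow_mul,
        ← pow_succ]
    have hYc : ∀ z, Commute ((Y * w⁻¹) ^ p) z := by
      rw [hYp]
      exact h _ (by rw [← pow_mul, ← pow_succ]; exact hy)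
    rw [pow_succ, pow_mul, hXY,
      mul_pow_of_comm hp2 h (comm_pow_of_central hp2 hK h hYc X), hYp]
    simp [X, pow_succ, pow_mul]

/-- The same with the small element on the left. -/
theorem mul_pow_exact' (hp2 : p ≠ 2) {m : ℕ} (hK : IsPGroup p K) (h : PCentral p K) {x y : K}
    (hy : y ^ p ^ (m + 1) = 1) : (y * x) ^ p ^ m = y ^ p ^ m * x ^ p ^ m := by
  have h1 : y * x = x * (x⁻¹ * y * x⁻¹⁻¹) := by group
  have h2 : (x⁻¹ * y * x⁻¹⁻¹) ^ p ^ (m + 1) = 1 := by rw [conj_pow, hy]; group
  have hc : ∀ z, Commute (y ^ p ^ m) z := h _ (by rw [← pow_mul, ← pow_succ]; exact hy)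
  rw [h1, mul_pow_exact hp2 hK h h2, conj_pow, ← (hc x⁻¹).eq, mul_inv_cancel_right, (hc _).eq]

/-- Equal `p`-th powers differ by an element of order `p`. -/
theorem div_pow_eq_one (hp2 : p ≠ 2) {l : ℕ} : ∀ {K : Type u} [Group K] [Finite K],
    IsPGroup p K → PCentral p K → ∀ {x y : K}, x ^ p ^ l = 1 → x ^ p = y ^ p →
      (x⁻¹ * y) ^ p = 1 := by
  induction l with
  | zero =>
    intro K _ _ _ _ x y hx hxy
    rw [pow_zero, pow_one] at hx
    subst hx
    rw [inv_one, one_mul, ← hxy, one_pow]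
  | succ l ih =>
    intro K _ _ hK h x y hx hxy
    have h1 := ih (hK.to_quotient (omega h)) (pCentral_quotient hp2 hK h)
      ((mk_pow_eq_one_iff h).mpr hx) (y := (y : K ⧸ omega h))
      (by rw [← QuotientGroup.mk_pow, ← QuotientGroup.mk_pow, hxy])
    rw [← QuotientGroup.mk_inv, ← QuotientGroup.mk_mul, ← QuotientGroup.mk_pow,
      QuotientGroup.eq_one_iff, mem_omega] at h1
    have h2 := mul_pow_of_comm hp2 h (x := x)
      (comm_pow_of_central hp2 hK h (h _ h1) x)
    rw [mul_inv_cancel_left, hxy] at h2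
    simpa using h2

/-- The index of the `p`-th powers is at most the number of elements killed by `p`. -/
theorem index_agemo_le (hp2 : p ≠ 2) (hK : IsPGroup p K) (h : PCentral p K) :
    (CfsgLib.OddOrder.BG4.agemo p K).index ≤ Nat.card (omega h) := by
  classical
  set A := CfsgLib.OddOrder.BG4.agemo p K
  have key : ∀ a : A, Nat.card {x : K // x ^ p = (a : K)} ≤ Nat.card (omega h) := by
    intro a
    rcases isEmpty_or_nonempty {x : K // x ^ p = (a : K)} with he | ⟨⟨x₀, hx₀⟩⟩
    · simp
    obtain ⟨l, hl⟩ := hK x₀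
    refine Nat.card_le_card_of_injective
      (fun x => (⟨x₀⁻¹ * x.1, div_pow_eq_one hp2 hK h hl (hx₀.trans x.2.symm)⟩ : omega h))
      fun a b hab => Subtype.ext ?_
    simpa using congrArg Subtype.val hab
  have hcard : Nat.card K ≤ Nat.card A * Nat.card (omega h) := by
    cases nonempty_fintype K
    let e : K ≃ Σ a : A, {x : K // x ^ p = (a : K)} :=
      { toFun := fun x => ⟨⟨x ^ p, CfsgLib.OddOrder.BG4.pow_mem_agemo x⟩, x, rfl⟩
        invFun := fun x => x.2.1
        left_inv := fun x => rfl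
        right_inv := fun ⟨⟨a, ha⟩, x, hx⟩ => by
          obtain rfl : a = x ^ p := hx.symm
          rfl }
    rw [Nat.card_congr e, Nat.card_sigma, Nat.card_eq_fintype_card (α := A)]
    exact (Finset.sum_le_sum fun a _ => key a).trans (by simp)
  rw [← card_mul_index A] at hcard
  exact Nat.le_of_mul_le_mul_left hcard Nat.card_pos

/-- A `p`-central group with at most `p²` elements killed by `p` is metacyclic. -/
theorem isMetacyclic_of_pCentral (hp2 : p ≠ 2) (hK : IsPGroup p K) (h : PCentral p K)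
    (hc : Nat.card (omega h) ≤ p ^ 2) : Cfsg.IsMetacyclic K :=
  CfsgLib.OddOrder.BG4.isMetacyclic_of_agemo hp2 hK ((index_agemo_le hp2 hK h).trans hc)

end CfsgLib.RankTwoOdd
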