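import Cfsg.Agent.RankTwoOdd.Twist

/-!
# Presentations in the split case
-/

namespace CfsgLib.RankTwoOdd

open Subgroup
open scoped commutatorElement

set_option linter.unusedSectionVars false
set_option linter.style.haveILetI false

universe u

namespace Setup

variable {p : ℕ} {G : Type u} [Group G] [Finite G] [hp : Fact p.Prime] (S : Setup p G)

theorem conj_pow_fix {a y : G} (ha : a ^ p = 1) : a ^ p * y * (a ^ p)⁻¹ = y := by
  rw [ha]; group

include S in
theorem choose_two_dvd : p ∣ p.choose 2 :=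
  hp.out.dvd_choose_self (by norm_num) (lt_of_le_of_ne hp.out.two_le S.hp2.symm)

/-- With a complement element and a wide second layer: `p = 3` and maximal class. -/
theorem wide {a : G} (haK : a ∉ S.K) (ha : a ^ p = 1) {y : G} (hy : y ∈ S.O 2) (hyP : y ∉ S.P 1) :
    p = 3 ∧ ¬ S.TZero := by
  set d := ⁅a, y⁆ with hd
  have hdP : d ∈ S.P 1 := S.R1 hy a
  have hdO : d ∉ S.O 1 := S.R2 hy hyP haK
  set e := ⁅a, d⁆ with he
  have heE : e ∈ S.E := S.mem_O_one.mp (S.R3 hdP a)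
  set f := ⁅a, e⁆ with hf
  have hfC : f ∈ S.C := S.comm_E heE a
  have hdp : d ^ p ≠ 1 := fun h => hdO ⟨hdP.1, by simpa using h⟩
  have key := pow_twist (conj_eq a y) (conj_eq a d) (conj_eq a e) (S.C_central hfC a).symm
    (S.commute_E_K heE hdP.1).symm (S.C_central hfC d).symm (S.C_central hfC e).symm p
  rw [conj_pow_fix ha] at key
  have hone : d ^ p * e ^ p.choose 2 * f ^ p.choose 3 = 1 :=
    mul_eq_right.mp key.symm
  obtain ⟨k, hk⟩ := S.choose_two_dvd
  rw [hk, pow_mul, S.pow_E e heE, one_pow, mul_one] at hone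
  constructor
  · by_contra hp3
    obtain ⟨k3, hk3⟩ := hp.out.dvd_choose_self (k := 3) (by norm_num) (by
      have := hp.out.two_le; have := S.hp2; omega)
    rw [hk3, pow_mul, S.pow_C hfC, one_pow, mul_one] at hone
    exact hdp hone
  · intro h
    have hf1 : f = 1 := commutatorElement_eq_one_iff_commute.mpr
      (S.C_central (h a d hdP) a).symm
    rw [hf1, one_pow, mul_one] at hone
    exact hdp hone

theorem mem_zpowers_nat {g x : G} (h : x ∈ zpowers g) : ∃ j : ℕ, g ^ j = x := by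
  obtain ⟨j, hj⟩ := (isOfFinOrder_of_finite g).mem_powers_iff_mem_zpowers.mpr h
  exact ⟨j, hj⟩

theorem exists_notMem_C : ∃ y ∈ S.E, y ∉ S.C := by
  by_contra h
  push Not at h
  have := Subgroup.card_le_of_le (show S.E ≤ S.C from h)
  rw [S.ecard, S.card_C] at this
  nlinarith [hp.out.two_le]

theorem E_le_closure {y : G} (hy : y ∈ S.E) (hyC : y ∉ S.C) {H : Subgroup G} (hyH : y ∈ H)
    (hC : S.C ≤ H) : S.E ≤ H := by
  have hle : S.C < H ⊓ S.E := lt_of_le_of_ne (le_inf hC S.C_le_E)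
    fun e => hyC (e.ge ⟨hyH, hy⟩)
  have h1 : p < Nat.card (H ⊓ S.E : Subgroup G) := by
    refine S.card_C.symm.le.trans_lt ?_
    exact Set.ncard_lt_ncard (SetLike.coe_ssubset_coe.mpr hle) (Set.toFinite _)
  have hdvd := Subgroup.card_dvd_of_le (inf_le_right : H ⊓ S.E ≤ S.E)
  rw [S.ecard] at hdvd
  obtain ⟨j, hj, hj'⟩ := (Nat.dvd_prime_pow hp.out).mp hdvd
  have hj2 : 1 < j := (Nat.pow_lt_pow_iff_right hp.out.one_lt).mp (by rwa [pow_one, ← hj'])
  have heq := Subgroup.eq_of_le_of_card_ge (inf_le_right : H ⊓ S.E ≤ S.E)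
    (by rw [S.ecard, hj', show j = 2 by omega])
  exact heq.ge.trans inf_le_left

/-- The narrow split case: the two presentations. -/
theorem narrow {a : G} (haK : a ∉ S.K) (ha : a ^ p = 1) (h2 : S.O 2 ≤ S.P 1) {n : ℕ}
    (hn : Nat.card G = p ^ n) :
    (3 ≤ n ∧ ∃ x y z : G, closure ({x, y, z} : Set G) = ⊤ ∧ x ^ p = 1 ∧ y ^ p = 1 ∧
        z ^ p ^ (n - 2) = 1 ∧ x * z = z * x ∧ y * z = z * y ∧
        x⁻¹ * y * x = y * z ^ p ^ (n - 3)) ∨
    (4 ≤ n ∧ ∃ (s : ℕ) (x y z : G), (s = 1 ∨ ¬ IsSquare (s : ZMod p)) ∧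
        closure ({x, y, z} : Set G) = ⊤ ∧ x ^ p = 1 ∧ y ^ p = 1 ∧ z ^ p ^ (n - 2) = 1 ∧
        y * z = z * y ∧ x⁻¹ * y * x = y * z ^ (s * p ^ (n - 3)) ∧ x⁻¹ * z * x = y * z) := by
  classical
  have hP : ∀ l, 1 ≤ l → S.O (l + 1) ≤ S.P l := by
    intro l hl x hx
    obtain ⟨q, rfl⟩ : ∃ q, l = q + 1 := ⟨l - 1, by omega⟩
    have h1 : x ^ p ^ q ∈ S.O 2 := ⟨pow_mem hx.1 _, by rw [← pow_mul, ← pow_add]; exact hx.2⟩
    have h1' := (h2 h1).2
    rw [pow_one, ← pow_mul, ← pow_succ] at h1'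
    exact ⟨hx.1, h1'⟩
  -- the top of `K`
  have hexT : ∃ T, S.K ≤ S.O (T + 1) := ⟨n, fun x hx => ⟨hx, by
    rw [pow_succ, pow_mul, ← hn, pow_card_eq_one', one_pow]⟩⟩
  set T := Nat.find hexT
  have hT : S.K ≤ S.O (T + 1) := Nat.find_spec hexT
  have hc1 : S.c ≠ 1 := fun h => hp.out.ne_one (by rw [← S.c_order, h, orderOf_one])
  obtain ⟨h, hhK, hhT, hhT', hh0⟩ : ∃ h ∈ S.K, h ∉ S.O T ∧ h ^ p ^ T ∈ S.C ∧ (T = 0 → h = S.c) := by
    rcases Nat.eq_zero_or_pos T with h0 | h0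
    · refine ⟨S.c, S.E_le_K S.cmem, ?_, ?_, fun _ => rfl⟩
      · rw [h0]; exact fun hh => hc1 (S.mem_O_zero hh)
      · exact pow_mem (mem_zpowers _) _
    · obtain ⟨q, hq⟩ : ∃ q, T = q + 1 := ⟨T - 1, by omega⟩
      obtain ⟨h, hhK, hh⟩ := SetLike.not_le_iff_exists.mp (Nat.find_min hexT (show q < T by omega))
      exact ⟨h, hhK, hq ▸ hh, (hP T h0 (hT hhK)).2, fun e => by omega⟩
  set w := h ^ p ^ T with hw
  have hw1 : w ≠ 1 := fun e => hhT ⟨hhK, e⟩
  have hwp : w ^ p = 1 := S.pow_C hhT'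
  have hwo : orderOf w = p := orderOf_eq_prime hwp hw1
  have hCw : zpowers w = S.C := Subgroup.eq_of_le_of_card_ge (zpowers_le.mpr hhT')
    (by rw [S.card_C, Nat.card_zpowers, hwo])
  have hwcen : ∀ g : G, Commute w g := S.C_central hhT'
  -- `K = E ⟨h⟩`
  haveI := S.enormal
  have hKgen : S.K ≤ S.E ⊔ zpowers h := by
    suffices H : ∀ l, l ≤ T → S.O (l + 1) ≤ S.E ⊔ zpowers h from hT.trans (H T le_rfl)
    intro l
    induction l with
    | zero => exact fun _ x hx => mem_sup_left (S.mem_O_one.mp hx)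
    | succ l ih =>
      intro hl x hx
      have hxC : x ^ p ^ (l + 1) ∈ zpowers w := hCw.ge (hP (l + 1) (by omega) hx).2
      obtain ⟨i, hi⟩ := mem_zpowers_iff.mp hxC
      set v := (h ^ p ^ (T - (l + 1))) ^ (-i) with hv
      have hvK : v ∈ S.K := zpow_mem (pow_mem hhK _) _
      have hvh : v ∈ zpowers h := zpow_mem (pow_mem (mem_zpowers h) _) _
      have h1 : v * x ∈ S.O (l + 1) := ⟨mul_mem hvK hx.1, by
        rw [S.exact_pow hvK hx.1 hx.2, ← hi, hv, ← zpow_natCast _ (p ^ (l + 1)), zpow_comm,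
          zpow_natCast, ← pow_mul, ← pow_add, Nat.sub_add_cancel hl, ← hw, ← zpow_add]
        simp⟩
      have := mul_mem (inv_mem (mem_sup_right (S := S.E) hvh)) (ih (by omega) h1)
      rwa [inv_mul_cancel_left] at this
  have hab : ∀ k ∈ S.K, Commute h k := by
    intro k hk
    have : S.E ⊔ zpowers h ≤ centralizer ({h} : Set G) := sup_le
      (fun e he => mem_centralizer_singleton_iff.mpr (S.commute_E_K he hhK).eq)
      (zpowers_le.mpr (mem_centralizer_singleton_iff.mpr rfl))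
    exact (mem_centralizer_singleton_iff.mp (this (hKgen hk))).symm
  have hordh : orderOf h = p ^ (T + 1) :=
    orderOf_eq_prime_pow (fun e => hhT ⟨hhK, e⟩) (hT hhK).2
  have hnT : n = T + 3 := by
    have hinf : S.E ⊓ zpowers h = S.C := by
      refine le_antisymm ?_ (le_inf S.C_le_E (hCw ▸ zpowers_le.mpr (pow_mem (mem_zpowers h) _)))
      rintro x ⟨hxE, hxh⟩
      obtain ⟨i, rfl⟩ := mem_zpowers_iff.mp hxh
      have h1 := S.pow_E _ hxE
      rw [← zpow_natCast, ← zpow_mul, ← orderOf_dvd_iff_zpow_eq_one, hordh, pow_succ] at h1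
      push_cast at h1
      obtain ⟨j, hj⟩ := (mul_dvd_mul_iff_right (by exact_mod_cast hp.out.ne_zero)).mp h1
      rw [← hCw, hj]
      refine ⟨j, ?_⟩
      show w ^ j = h ^ ((p : ℤ) ^ T * j)
      rw [zpow_mul, ← Nat.cast_pow, zpow_natCast]
    have hsup : S.E ⊔ zpowers h = S.K :=
      le_antisymm (sup_le S.E_le_K (zpowers_le.mpr hhK)) hKgen
    have h1 : Nat.card S.E * S.E.relIndex S.K = Nat.card S.K := by
      rw [← relIndex_bot_left, ← relIndex_bot_left, relIndex_mul_relIndex _ _ _ bot_le S.E_le_K]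
    have h2 : Nat.card S.C * (S.C).relIndex (zpowers h) = Nat.card (zpowers h) := by
      rw [← relIndex_bot_left, ← relIndex_bot_left,
        relIndex_mul_relIndex _ _ _ bot_le (hinf ▸ inf_le_right)]
    rw [← hsup, relIndex_sup_left, hsup, S.ecard, ← inf_relIndex_right, hinf] at h1
    rw [Nat.card_zpowers, hordh, S.card_C, pow_succ'] at h2
    have h3 := card_mul_index S.K
    rw [show S.K.index = p from S.index_eq, ← h1, Nat.eq_of_mul_eq_mul_left hp.out.pos h2, hn] at h3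
    have h4 : p ^ (T + 3) = p ^ n := by rw [← h3]; ring
    exact (Nat.pow_right_injective hp.out.two_le h4).symm
  have hzero : T = 0 → ⁅a, h⁆ = 1 := fun e => by
    rw [hh0 e]; exact commutatorElement_eq_one_iff_commute.mpr (S.c_central a).symm
  -- `d = [a, h]` lies in `E`
  set d := ⁅a, h⁆ with hddef
  have hdE : d ∈ S.E := by
    rcases Nat.eq_zero_or_pos T with h0 | h0
    · rw [hzero h0]; exact one_mem _
    have hdO : d ∈ S.O T := S.R3 ⟨hhK, hhT'⟩ a
    obtain ⟨u, hu, v, hv, huv⟩ := mem_sup_of_normal_left.mp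
      (hKgen hdO.1 : d ∈ S.E ⊔ zpowers h)
    obtain ⟨s, rfl⟩ := mem_zpowers_iff.mp hv
    have hps : (p : ℤ) ∣ s := by
      have h1 : (u * h ^ s) ^ p ^ T = 1 := huv ▸ hdO.2
      have hu1 : u ^ p ^ T = 1 := by
        obtain ⟨q, hq⟩ : ∃ q, T = q + 1 := ⟨T - 1, by omega⟩
        rw [hq, pow_succ', pow_mul, S.pow_E u hu, one_pow]
      rw [((S.commute_E_K hu hhK).zpow_right s).mul_pow, hu1, one_mul, ← zpow_natCast, zpow_comm,
        zpow_natCast, ← hw, ← orderOf_dvd_iff_zpow_eq_one, hwo] at h1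
      exact h1
    obtain ⟨i, rfl⟩ := hps
    set c' := ⁅a, u⁆ with hc'
    have hc'C : c' ∈ S.C := S.comm_E hu a
    have hdh : Commute d h := (hab d hdO.1).symm
    have hd' : a * d * a⁻¹ = d ^ (1 + (p : ℤ) * i) * c' := by
      calc a * d * a⁻¹ = a * (u * h ^ ((p : ℤ) * i)) * a⁻¹ := by rw [huv]
        _ = (c' * u) * (d * h) ^ ((p : ℤ) * i) := by
          rw [← conj_mul, ← conj_zpow, conj_eq a h, conj_eq a u]
        _ = c' * (u * (h ^ ((p : ℤ) * i) * d ^ ((p : ℤ) * i))) := by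
          rw [hdh.mul_zpow, (hdh.zpow_zpow _ _).eq, mul_assoc]
        _ = c' * (d * d ^ ((p : ℤ) * i)) := by rw [← mul_assoc u, huv]
        _ = d ^ (1 + (p : ℤ) * i) * c' := by
          rw [← zpow_one_add, (S.C_central hc'C _).eq]
    obtain ⟨Z, W, key⟩ := pow_twist' (conj_eq a h) hd' (S.C_central hc'C a).symm
      (S.C_central hc'C d).symm p
    rw [conj_pow_fix ha] at key
    have hone := mul_eq_right.mp key.symm
    obtain ⟨k, hk⟩ := S.choose_two_dvd
    have hk' : ((p.choose 2 : ℕ) : ℤ) = p * k := by exact_mod_cast hk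
    rw [hk', ← mul_add, show (p : ℤ) + p * i * (p * k) + (p : ℤ) ^ 2 * Z =
      (p : ℤ) * (1 + p * (i * k + Z)) by ring, zpow_mul, zpow_mul c', zpow_natCast, zpow_natCast,
      S.pow_C hc'C, one_zpow, mul_one, ← orderOf_dvd_iff_zpow_eq_one] at hone
    refine S.mem_E d hdO.1 ?_
    obtain ⟨L, hL⟩ := IsPGroup.iff_orderOf.mp S.hG (d ^ p)
    rw [hL] at hone
    rcases Nat.eq_zero_or_pos L with hL0 | hL0
    · exact orderOf_eq_one_iff.mp (by rw [hL, hL0, pow_zero])
    · exfalso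
      have h1 : (p : ℤ) ∣ 1 + p * (i * k + Z) := (dvd_pow_self _ (by omega : L ≠ 0)).trans
        (by exact_mod_cast hone)
      have h2 : (p : ℤ) ∣ 1 := by simpa using (dvd_add_left (dvd_mul_right _ _)).mp h1
      exact hp.out.one_lt.ne' (by exact_mod_cast Int.eq_one_of_dvd_one (by positivity) h2)
  -- generators
  have htop : ∀ H : Subgroup G, a ∈ H → (∃ y ∈ S.E, y ∉ S.C ∧ y ∈ H) → h ∈ H → H = ⊤ := by
    intro H haH ⟨y, hyE, hyC, hyH⟩ hhH
    exact S.eq_top_of_K_le (hKgen.trans (sup_le (S.E_le_closure hyE hyC hyH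
      (hCw ▸ zpowers_le.mpr (pow_mem hhH _))) (zpowers_le.mpr hhH))) haH haK
  have hq : ∀ y ∈ S.E, y ∉ S.C → ∃ q : ℕ, ⁅a, y⁆ = w ^ q ∧ (q : ZMod p) ≠ 0 := by
    intro y hyE hyC
    obtain ⟨q, hq⟩ := mem_zpowers_nat (hCw.ge (S.comm_E hyE a))
    refine ⟨q, hq.symm, fun e => S.comm_E_ne hyE hyC haK ?_⟩
    obtain ⟨k, rfl⟩ := (ZMod.natCast_eq_zero_iff q p).mp e
    rw [← hq, pow_mul, hwp, one_pow]
  have hpowa : ∀ m : ℕ, (m : ZMod p) ≠ 0 → ∀ H : Subgroup G, (a ^ m)⁻¹ ∈ H → a ∈ H := by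
    intro m hm H hH
    have h1 := pow_mem (inv_mem_iff.mp hH) ((m : ZMod p)⁻¹.val)
    rwa [← pow_mul, pow_eq_pow_mod _ ha, ← ZMod.val_natCast, Nat.cast_mul,
      ZMod.natCast_zmod_val, mul_inv_cancel₀ hm, ZMod.val_one, pow_one] at h1
  have hwcast : ∀ i j : ℕ, (i : ZMod p) = j → w ^ i = w ^ j := fun i j e => by
    rw [pow_eq_pow_iff_modEq, hwo]; exact (ZMod.natCast_eq_natCast_iff ..).mp e
  have hzp : ∀ m : ℕ, (a ^ m)⁻¹ ^ p = 1 := fun m => by
    rw [inv_pow, ← pow_mul, mul_comm, pow_mul, ha, one_pow, inv_one]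
  by_cases hdC : d ∈ S.C
  · refine Or.inl ⟨by omega, ?_⟩
    obtain ⟨y, hyE, hyC⟩ := S.exists_notMem_C
    obtain ⟨q, hq1, hq0⟩ := hq y hyE hyC
    obtain ⟨j, hj⟩ := mem_zpowers_nat (hCw.ge hdC)
    set l := ((j : ZMod p) * (q : ZMod p)⁻¹).val with hl
    set m := ((q : ZMod p)⁻¹).val with hm
    have hlq : w ^ (q * l) = d := by
      rw [← hj]; refine hwcast _ _ ?_
      rw [Nat.cast_mul, hl, ZMod.natCast_zmod_val, mul_comm, inv_mul_cancel_right₀ hq0]
    have hyh : Commute y h := S.commute_E_K hyE hhK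
    set z := (y ^ l)⁻¹ * h with hz
    have hzT : z ^ p ^ T = w := by
      rw [hz, ((hyh.pow_left l).inv_left).mul_pow, ← hw, mul_eq_right, inv_pow, inv_eq_one,
        ← pow_mul]
      rcases Nat.eq_zero_or_pos T with h0 | h0
      · have : (j : ZMod p) = 0 := by
          rw [ZMod.natCast_eq_zero_iff, ← hwo, orderOf_dvd_iff_pow_eq_one, hj, hzero h0]
        simp [hl, this]
      · obtain ⟨q', hq'⟩ : ∃ q', T = q' + 1 := ⟨T - 1, by omega⟩
        rw [hq', pow_succ', mul_left_comm, pow_mul, S.pow_E y hyE, one_pow]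
    have haz : Commute a z := by
      rw [← commutatorElement_eq_one_iff_commute]
      have e : ⁅a, z⁆ = (a * y * a⁻¹)⁻¹ ^ l * (a * h * a⁻¹) * z⁻¹ := by
        rw [hz, inv_pow, conj_pow, commutatorElement_def]; group
      rw [e, conj_eq a y, hq1, conj_eq a h, ← hddef, inv_pow, ((hwcen y).pow_left q).mul_pow,
        ← pow_mul, hlq, hz]
      group
    refine ⟨(a ^ m)⁻¹, y, z, ?_, hzp m, S.pow_E y hyE, ?_, ?_, ?_, ?_⟩
    · have hy : y ∈ closure ({(a ^ m)⁻¹, y, z} : Set G) := subset_closure (by simp)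
      refine htop _ (hpowa m ?_ _ (subset_closure (by simp))) ⟨y, hyE, hyC, hy⟩ ?_
      · rw [hm, ZMod.natCast_zmod_val]; exact inv_ne_zero hq0
      · have : h = y ^ l * z := by rw [hz, mul_inv_cancel_left]
        rw [this]
        exact mul_mem (pow_mem hy _) (subset_closure (by simp))
    · rw [show n - 2 = T + 1 by omega, pow_succ, pow_mul, hzT, hwp]
    · exact ((haz.pow_left m).inv_left).eq
    · exact (S.commute_E_K hyE (mul_mem (inv_mem (S.E_le_K (pow_mem hyE l))) hhK)).eq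
    · rw [show n - 3 = T by omega, hzT, inv_inv]
      have key := pow_twist (f := 1) (conj_eq a y) (e := 1)
        (by rw [one_mul, (S.C_central (S.comm_E hyE a) a).symm.eq, mul_inv_cancel_right])
        (by simp) (Commute.one_right a) (Commute.one_right _) (Commute.one_right _)
        (Commute.one_right _) m
      rw [one_pow, one_pow, mul_one, mul_one, hq1, ← pow_mul,
        hwcast (q * m) 1 (by rw [Nat.cast_mul, hm, ZMod.natCast_zmod_val, mul_inv_cancel₀ hq0,
          Nat.cast_one]), pow_one] at key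
      rw [key, (hwcen y).eq]
  · have hT1 : 1 ≤ T := by
      by_contra h0
      exact hdC (by rw [hzero (by omega)]; exact one_mem _)
    refine Or.inr ⟨by omega, ?_⟩
    obtain ⟨q, hq1, hq0⟩ := hq d hdE hdC
    obtain ⟨s, m, hs, hm, hsm⟩ : ∃ s m : ℕ, (s = 1 ∨ ¬ IsSquare (s : ZMod p)) ∧
        (m : ZMod p) ≠ 0 ∧ (q : ZMod p) * m * m = s := by
      by_cases hsq : IsSquare (q : ZMod p)
      · obtain ⟨b, hb⟩ := hsq
        refine ⟨1, b⁻¹.val, Or.inl rfl, ?_, ?_⟩
        · rw [ZMod.natCast_zmod_val]; exact inv_ne_zero fun e => hq0 (by rw [hb, e, zero_mul])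
        · have hb0 : b ≠ 0 := fun e => hq0 (by rw [hb, e, zero_mul])
          rw [ZMod.natCast_zmod_val, hb, Nat.cast_one]
          field_simp
      · exact ⟨q, 1, Or.inr hsq, by simp, by simp⟩
    have hyd : a * d * a⁻¹ = w ^ q * d := by rw [← hq1]; exact conj_eq a d
    have hwd : Commute (w ^ q) d := (hwcen d).pow_left q
    have key1 := pow_twist (f := 1) (e := 1) hyd
      (by rw [one_mul, ((hwcen a).pow_left q).symm.eq, mul_inv_cancel_right]) (by simp)
      (Commute.one_right a) (Commute.one_right _) (Commute.one_right _) (Commute.one_right _) m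
    rw [one_pow, one_pow, mul_one, mul_one, ← pow_mul] at key1
    have key2 := pow_twist (f := 1) (conj_eq a h) (hyd.trans rfl) (by
        rw [one_mul, ((hwcen a).pow_left q).symm.eq, mul_inv_cancel_right])
      (Commute.one_right a) hwd.symm (Commute.one_right _) (Commute.one_right _) m
    rw [one_pow, mul_one, ← pow_mul, ← hddef] at key2
    set y := d ^ m * w ^ (q * m.choose 2) with hy
    have hyE : y ∈ S.E := mul_mem (pow_mem hdE _) (pow_mem (S.C_le_E hhT') _)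
    have hyC : y ∉ S.C := by
      intro hyC
      have h1 : d ^ m ∈ S.C := by
        have := mul_mem hyC (inv_mem (pow_mem hhT' (q * m.choose 2)))
        rwa [hy, mul_inv_cancel_right] at this
      apply hdC
      have h3 := pow_mem h1 ((m : ZMod p)⁻¹.val)
      rwa [← pow_mul, pow_eq_pow_mod _ (S.pow_E d hdE), ← ZMod.val_natCast, Nat.cast_mul,
        ZMod.natCast_zmod_val, mul_inv_cancel₀ hm, ZMod.val_one, pow_one] at h3
    refine ⟨s, (a ^ m)⁻¹, y, h, hs, ?_, hzp m, S.pow_E y hyE, ?_, (S.commute_E_K hyE hhK).eq,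
      ?_, ?_⟩
    · exact htop _ (hpowa m hm _ (subset_closure (by simp)))
        ⟨y, hyE, hyC, subset_closure (by simp)⟩ (subset_closure (by simp))
    · rw [show n - 2 = T + 1 by omega]; exact (hT hhK).2
    · rw [show n - 3 = T by omega, mul_comm s, pow_mul, ← hw, inv_inv]
      have e : a ^ m * y * (a ^ m)⁻¹ =
          (a ^ m * d * (a ^ m)⁻¹) ^ m * w ^ (q * m.choose 2) := by
        rw [conj_pow, hy]
        have := ((hwcen (a ^ m)).pow_left (q * m.choose 2)).eq
        calc a ^ m * (d ^ m * w ^ (q * m.choose 2)) * (a ^ m)⁻¹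
            = a ^ m * d ^ m * (w ^ (q * m.choose 2) * (a ^ m)⁻¹) := by group
          _ = a ^ m * d ^ m * ((a ^ m)⁻¹ * w ^ (q * m.choose 2)) := by
            rw [(((hwcen (a ^ m)⁻¹).pow_left (q * m.choose 2))).eq]
          _ = a ^ m * d ^ m * (a ^ m)⁻¹ * w ^ (q * m.choose 2) := by group
      rw [e, key1, ((hwcen d).pow_left _).mul_pow, ← pow_mul, mul_assoc, ← hy,
        hwcast (q * m * m) s (by push_cast; exact hsm), ((hwcen y).pow_left s).eq]
    · rw [inv_inv]; exact key2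

end Setup

end CfsgLib.RankTwoOdd
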