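import Cfsg.Agent.RankTwoOdd.Filtration

/-!
# The dichotomy: metacyclic or maximal class
-/

namespace CfsgLib.RankTwoOdd

open Subgroup
open scoped commutatorElement

set_option linter.unusedSectionVars false
set_option linter.style.haveILetI false

universe u

/-- The cube of a product when the twist is central. -/
theorem cube_mul {Q : Type*} [Group Q] {a y d : Q} (h1 : a * y * a⁻¹ = d * y)
    (h2 : Commute a d) (h3 : Commute d y) : (y * a) ^ 3 = d ^ 3 * (y ^ 3 * a ^ 3) := by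
  have e1 : a * y = d * (y * a) := by
    calc a * y = a * y * a⁻¹ * a := by group
      _ = d * (y * a) := by rw [h1, mul_assoc]
  have hd : Commute d (y * a) := h3.mul_right h2.symm
  have e2 : (y * a) ^ 2 = d * (y ^ 2 * a ^ 2) := by
    rw [sq, mul_assoc y a, ← mul_assoc a, e1, ← mul_assoc, ← mul_assoc y d, ← h3.eq, sq, sq]
    simp only [mul_assoc]
  have e3 : a ^ 2 * y = d ^ 2 * (y * a ^ 2) := by
    rw [sq, sq, mul_assoc a, e1, ← mul_assoc a d, h2.eq, mul_assoc d a, ← mul_assoc a y, e1]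
    simp only [mul_assoc]
  calc (y * a) ^ 3 = (y * a) ^ 2 * (y * a) := pow_succ _ 2
    _ = d * (y ^ 2 * ((a ^ 2 * y) * a)) := by rw [e2]; simp only [mul_assoc]
    _ = d * (y ^ 2 * d ^ 2) * (y * a ^ 2) * a := by rw [e3]; simp only [mul_assoc]
    _ = d * (d ^ 2 * y ^ 2) * (y * a ^ 2) * a := by rw [(h3.pow_pow 2 2).eq]
    _ = d ^ 3 * (y ^ 3 * a ^ 3) := by
      rw [← mul_assoc d, ← pow_succ', pow_succ y 2, pow_succ a 2]
      simp only [mul_assoc]

namespace Setup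

variable {p : ℕ} {G : Type u} [Group G] [Finite G] [hp : Fact p.Prime] (S : Setup p G)

/-- `[P 1, G] ≤ C`. -/
def TZero : Prop := ∀ g : G, ∀ x ∈ S.P 1, ⁅g, x⁆ ∈ S.C

theorem card_omega : Nat.card (omega S.pCentral) ≤ p ^ 2 := by
  rw [← S.ecard]
  refine Nat.card_le_card_of_injective
    (fun x => (⟨((x : S.K) : G), S.mem_E _ (x : S.K).2
      (by simpa using congrArg Subtype.val x.2)⟩ : S.E))
    fun a b hab => Subtype.ext (Subtype.ext (by simpa using congrArg Subtype.val hab))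

theorem index_agemo : (CfsgLib.OddOrder.BG4.agemo p S.K).index ≤ p ^ 2 :=
  (index_agemo_le S.hp2 S.pGroup_K S.pCentral).trans S.card_omega

theorem comm_cyclic : IsCyclic (commutator S.K) :=
  CfsgLib.OddOrder.BG4.isCyclic_commutator_of_agemo S.hp2 S.pGroup_K S.index_agemo

theorem exists_root {x : G} (hx : x ∈ (CfsgLib.OddOrder.BG4.agemo p S.K).map S.K.subtype) :
    ∃ k ∈ S.K, k ^ p = x := by
  haveI := S.comm_cyclic
  obtain ⟨v, hv, rfl⟩ := mem_map.mp hx
  obtain ⟨k, hk⟩ := CfsgLib.OddOrder.BG4.exists_pow_eq_of_mem_agemo S.hp2 S.pGroup_K hv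
  exact ⟨k, k.2, by simpa using congrArg Subtype.val hk⟩

/-- `[P 1, K] ≤ C`. -/
theorem comm_P_one_K {x k : G} (hx : x ∈ S.P 1) (hk : k ∈ S.K) : ⁅k, x⁆ ∈ S.C := by
  by_cases hxE : x ∈ S.E
  · exact S.comm_E hxE k
  haveI := S.comm_cyclic
  have hval : ∀ g : G, ⁅g, x⁆ ∈ S.E := fun g => S.mem_O_one.mp (S.R3 hx g)
  let f : S.K →* G := MonoidHom.mk' (fun k => ⁅(k : G), x⁆) fun a b => by
    show ⁅(a : G) * b, x⁆ = ⁅(a : G), x⁆ * ⁅(b : G), x⁆
    have e : ⁅(a : G) * b, x⁆ = (a : G) * ⁅(b : G), x⁆ * (a : G)⁻¹ * ⁅(a : G), x⁆ := by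
      simp only [commutatorElement_def]; group
    rw [e, ← (S.commute_E_K (hval b) a.2).eq, mul_inv_cancel_right]
    exact (S.commute_E_K (hval b) (S.E_le_K (hval a))).eq
  obtain ⟨h, hh, hxh⟩ := CfsgLib.OddOrder.BG4.exists_not_mem_agemo_of_mem S.hp2 S.pGroup_K
    (c := (⟨x, hx.1⟩ : S.K)) (fun h => hxE (by
      have : x = 1 := by simpa using congrArg Subtype.val h
      rw [this]; exact one_mem _))
  have hker : CfsgLib.OddOrder.BG4.agemo p S.K ≤ f.ker := by
    rw [CfsgLib.OddOrder.BG4.agemo, closure_le]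
    rintro _ ⟨k, rfl⟩
    show f (k ^ p) = 1
    rw [map_pow]
    exact S.pow_E _ (hval k)
  have hhker : h ∈ f.ker := by
    show ⁅(h : G), x⁆ = 1
    obtain ⟨i, hi⟩ := mem_zpowers_iff.mp hxh
    have hi' : (h : G) ^ i = x := by simpa using congrArg Subtype.val hi
    rw [commutatorElement_eq_one_iff_commute, ← hi']
    exact Commute.self_zpow _ _
  have hrange : Nat.card f.range ≤ p := by
    rw [← index_ker]
    have h1 := relIndex_mul_index hker
    have h2 : (CfsgLib.OddOrder.BG4.agemo p S.K).relIndex f.ker ≠ 1 :=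
      fun e => hh (relIndex_eq_one.mp e hhker)
    have h3 : f.ker.index ≠ 0 := index_ne_zero_of_finite
    obtain ⟨j, hj⟩ := (IsPGroup.index (S.pGroup_K) f.ker)
    have h4 : f.ker.index < p ^ 2 := by
      refine lt_of_lt_of_le ?_ S.index_agemo
      rw [← h1]
      have h5 : (CfsgLib.OddOrder.BG4.agemo p S.K).relIndex f.ker ≠ 0 := by
        simpa [relIndex] using index_ne_zero_of_finite
          (H := (CfsgLib.OddOrder.BG4.agemo p S.K).subgroupOf f.ker)
      exact lt_mul_of_one_lt_left (Nat.pos_of_ne_zero h3) (by omega)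
    rw [hj] at h4 ⊢
    calc p ^ j ≤ p ^ 1 := Nat.pow_le_pow_right hp.out.pos
          (by have := (Nat.pow_lt_pow_iff_right hp.out.one_lt).mp h4; omega)
      _ = p := pow_one p
  haveI hn : f.range.Normal := ⟨by
    rintro _ ⟨k, rfl⟩ g
    refine ⟨⟨g * k * g⁻¹, S.K_normal.conj_mem _ k.2 g⟩, ?_⟩
    show ⁅g * (k : G) * g⁻¹, x⁆ = g * ⁅(k : G), x⁆ * g⁻¹
    set k' := g * (k : G) * g⁻¹
    have hk' : k' ∈ S.K := S.K_normal.conj_mem _ k.2 g
    have e : g * ⁅(k : G), x⁆ * g⁻¹ = ⁅k', ⁅g, x⁆⁆ * (⁅g, x⁆ * ⁅k', x⁆ * ⁅g, x⁆⁻¹) := by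
      simp only [k', commutatorElement_def]; group
    rw [e, commutatorElement_eq_one_iff_commute.mpr (S.commute_E_K (hval g) hk').symm, one_mul,
      (S.commute_E_K (hval g) (S.E_le_K (hval k'))).eq, mul_inv_cancel_right]⟩
  have hmem : ⁅k, x⁆ ∈ f.range := ⟨⟨k, hk⟩, rfl⟩
  refine S.cen_E _ (hval k) fun g => ?_
  rcases (S.hG.to_subgroup f.range).card_eq_or_dvd with h1 | h1
  · rw [mem_bot.mp ((Subgroup.card_eq_one.mp h1).le hmem)]; exact Commute.one_left g
  · exact (mem_center_iff.mp (CfsgLib.OddOrder.BG4.le_center_of_normal_card_prime S.hG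
      (le_antisymm hrange (Nat.le_of_dvd Nat.card_pos h1)) hmem) g).symm

/-- Without `TZero` every element outside `K` moves `P 1` modulo `C`. -/
theorem move (h : ¬ S.TZero) {g x : G} (hg : g ∉ S.K) (hx : x ∈ S.P 1) (hxE : x ∉ S.E) :
    ⁅g, x⁆ ∉ S.C := by
  intro hgx
  apply h
  let H : Subgroup G :=
    { carrier := {v | ⁅v, x⁆ ∈ S.C}
      one_mem' := by simp
      mul_mem' := fun {a b} (ha : ⁅a, x⁆ ∈ S.C) (hb : ⁅b, x⁆ ∈ S.C) => show ⁅a * b, x⁆ ∈ S.C by
        have e : ⁅a * b, x⁆ = a * ⁅b, x⁆ * a⁻¹ * ⁅a, x⁆ := by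
          simp only [commutatorElement_def]; group
        rw [e, ← (S.C_central hb a).eq, mul_inv_cancel_right]
        exact mul_mem hb ha
      inv_mem' := fun {a} (ha : ⁅a, x⁆ ∈ S.C) => show ⁅a⁻¹, x⁆ ∈ S.C by
        have e : ⁅a⁻¹, x⁆ = a⁻¹ * ⁅a, x⁆⁻¹ * a := by simp only [commutatorElement_def]; group
        rw [e, ← (S.C_central (inv_mem ha) a⁻¹).eq, inv_mul_cancel_right]
        exact inv_mem ha }
  have hH : H = ⊤ := S.eq_top_of_K_le (fun k hk => S.comm_P_one_K hx hk) (g := g) hgx hg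
  intro v y hy
  have hxp : orderOf (x ^ p) = p := orderOf_eq_prime
    (by have := (S.P_le_O 1 hx).2; rw [pow_succ, pow_one, pow_mul] at this; exact this)
    (fun h1 => hxE (S.mem_E x hx.1 h1))
  have hC : zpowers (x ^ p) = S.C := Subgroup.eq_of_le_of_card_ge
    (zpowers_le.mpr (by simpa using hx.2)) (by rw [S.card_C, Nat.card_zpowers, hxp])
  obtain ⟨i, hi⟩ := mem_zpowers_iff.mp (hC.ge (by simpa using hy.2 : y ^ p ∈ S.C))
  have hw : x ^ (-i) * y ∈ S.E := by
    refine S.mem_E _ (mul_mem (zpow_mem hx.1 _) hy.1) ?_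
    have hy2 : y ^ p ^ (1 + 1) = 1 := (S.P_le_O 1 hy).2
    have := S.exact_pow (m := 1) (zpow_mem hx.1 (-i)) hy.1 hy2
    rw [pow_one] at this
    rw [this, ← hi, ← zpow_natCast (x ^ (-i)) p, ← zpow_mul, ← zpow_natCast x p, ← zpow_mul,
      ← zpow_add, show -i * (p : ℤ) + p * i = 0 by ring, zpow_zero]
  have hv : ⁅v, x⁆ ∈ S.C := hH.ge (mem_top v)
  have hmk : ∀ z ∈ S.C, ∀ r : G, r * z * r⁻¹ ∈ S.C := fun z hz r => by
    rw [← (S.C_central hz r).eq, mul_inv_cancel_right]; exact hz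
  have hzp : ∀ j : ℤ, ⁅v, x ^ j⁆ ∈ S.C := by
    intro j
    induction j with
    | zero => simp
    | succ j ih =>
      have e : ⁅v, x ^ ((j : ℤ) + 1)⁆ = ⁅v, x ^ (j : ℤ)⁆ * (x ^ (j : ℤ) * ⁅v, x⁆ * (x ^ (j : ℤ))⁻¹) := by
        rw [zpow_add_one]; simp only [commutatorElement_def]; group
      rw [e]; exact mul_mem ih (hmk _ hv _)
    | pred j ih =>
      have e : ⁅v, x ^ (-(j : ℤ) - 1)⁆ =
          ⁅v, x ^ (-(j : ℤ))⁆ * ((x ^ (-(j : ℤ) - 1)) * ⁅v, x⁆⁻¹ * (x ^ (-(j : ℤ) - 1))⁻¹) := by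
        rw [zpow_sub_one]; simp only [commutatorElement_def]; group
      rw [e]; exact mul_mem ih (hmk _ (inv_mem hv) _)
  have e : ⁅v, y⁆ = ⁅v, x ^ i⁆ * (x ^ i * ⁅v, x ^ (-i) * y⁆ * (x ^ i)⁻¹) := by
    simp only [commutatorElement_def]; group
  rw [e]
  exact mul_mem (hzp i) (hmk _ (S.comm_E hw v) _)

/-! ### Maximal class -/

theorem comm_mem_lcs {x g : G} {j : ℕ} (hx : x ∈ (⊤ : Subgroup G).lowerCentralSeries j) :
    ⁅g, x⁆ ∈ (⊤ : Subgroup G).lowerCentralSeries (j + 1) := by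
  rw [← commutatorElement_inv, Subgroup.lowerCentralSeries_succ]
  exact inv_mem (commutator_mem_commutator hx (mem_top g))

theorem chain (h : ¬ S.TZero) {g : G} (hg : g ∉ S.K) : ∀ l : ℕ, ∀ x ∈ S.O (l + 1), x ∉ S.P l →
    ∀ j, x ∈ (⊤ : Subgroup G).lowerCentralSeries j →
      (⊤ : Subgroup G).lowerCentralSeries (j + 2 * l + 1) ≠ ⊥ := by
  intro l
  induction l with
  | zero =>
    intro x hx hxP j hj hbot
    exact S.R2 hx hxP hg (by
      rw [mem_bot.mp (hbot.le (comm_mem_lcs (g := g) hj))]; exact one_mem _)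
  | succ l ih =>
    intro x hx hxP j hj
    have hd := S.R1 hx g
    have hdO := S.R2 hx hxP hg
    obtain ⟨hx', hiff⟩ := S.R4 hd g
    have hne : ⁅g, ⁅g, x⁆ ^ p ^ l⁆ ∉ S.C := S.move h hg hx' (fun hE => hdO ⟨hd.1, by
      rw [pow_succ, pow_mul]; exact S.pow_E _ hE⟩)
    have := ih _ (S.R3 hd g) (fun hP => hne (hiff.mp hP)) (j + 1 + 1)
      (comm_mem_lcs (comm_mem_lcs hj))
    rwa [show j + 2 * (l + 1) + 1 = j + 1 + 1 + 2 * l + 1 by ring]

/-- Without `TZero` the group has maximal class. -/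
theorem maximal_class (h : ¬ S.TZero) {n : ℕ} (hn : Nat.card G = p ^ n) :
    2 ≤ n ∧ (⊤ : Subgroup G).lowerCentralSeries (n - 2) ≠ ⊥ := by
  classical
  obtain ⟨g, hg⟩ : ∃ g, g ∉ S.K := by
    by_contra hh
    push Not at hh
    have := S.index_eq
    rw [show centralizer (S.E : Set G) = (⊤ : Subgroup G) from top_unique fun x _ => hh x,
      index_top] at this
    exact hp.out.ne_one this.symm
  have hKcard : Nat.card S.K * p = p ^ n := by
    have h1 := card_mul_index S.K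
    rwa [show S.K.index = p from S.index_eq, hn] at h1
  have hn2 : 2 ≤ n := by
    have h1 : p ^ 2 ≤ p ^ n := by
      rw [← hn, ← S.ecard]; exact Nat.card_le_card_of_injective _ Subtype.val_injective
    exact (Nat.pow_le_pow_iff_right hp.out.one_lt).mp h1
  have hex : ∃ r, S.O (r + 1) ≤ S.P r := ⟨n, fun x hx => ⟨hx.1, by
    rw [← hn, pow_card_eq_one']; exact one_mem _⟩⟩
  set r := Nat.find hex with hr
  have hrspec : S.O (r + 1) ≤ S.P r := Nat.find_spec hex
  have hr1 : r ≠ 0 := by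
    intro h0
    rw [h0] at hrspec
    have hle : S.E ≤ S.C := fun e he => S.mem_P_zero.mp (hrspec (S.mem_O_one.mpr he))
    have := Subgroup.card_le_of_le hle
    rw [S.ecard, S.card_C] at this
    nlinarith [hp.out.two_le]
  obtain ⟨m, hm⟩ : ∃ m, r = m + 1 := ⟨r - 1, by omega⟩
  -- the top layer
  have htop : S.K ≤ S.O (r + 1) := by
    by_contra hle
    obtain ⟨x, hxK, hx⟩ := SetLike.not_le_iff_exists.mp hle
    have hexl := S.exists_mem_O hxK
    set l := Nat.find hexl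
    have hl : x ∈ S.O l := Nat.find_spec hexl
    have hlr : r + 2 ≤ l := by
      by_contra hlr
      exact hx (S.O_mono (by omega) hl)
    obtain ⟨q, hq⟩ := Nat.exists_eq_add_of_le hlr
    have hy : x ^ p ^ q ∈ S.O (r + 2) := ⟨pow_mem hxK _, by
      rw [← pow_mul, ← pow_add, add_comm, ← hq]; exact hl.2⟩
    have hy' : x ^ p ^ q ∉ S.O (r + 1) := fun h' => Nat.find_min hexl (show r + 1 + q < l by omega)
      ⟨hxK, by rw [add_comm, pow_add, pow_mul]; exact h'.2⟩
    set y := x ^ p ^ q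
    have hyp : y ^ p ∈ S.P r := hrspec ⟨pow_mem hy.1 _, by
      rw [← pow_mul, ← pow_succ']; exact hy.2⟩
    have hyP : y ∈ S.P (r + 1) := ⟨hy.1, by rw [pow_succ', pow_mul]; exact hyp.2⟩
    have hd : ⁅g, y⁆ ∈ S.P r := hrspec (S.R3 hyP g)
    -- contradiction with the movement of `(y ^ p) ^ (p ^ m)`
    obtain ⟨hy1, hiff⟩ := S.R4 hyP g
    refine S.move h hg hy1 (fun hE => hy' ⟨hy.1, ?_⟩) (hiff.mp hd)
    rw [pow_succ, pow_mul]
    exact S.pow_E _ hE
  have hcardO : ∀ l, Nat.card (S.O (l + 1)) ≤ p ^ 2 * Nat.card (S.O l) ∧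
      (S.O (l + 1) ≤ S.P l → Nat.card (S.O (l + 1)) ≤ p * Nat.card (S.O l)) := by
    intro l
    let f : S.O (l + 1) →* G := MonoidHom.mk' (fun x => (x : G) ^ p ^ l)
      fun a b => S.exact_pow a.2.1 b.2.1 b.2.2
    have hker : Nat.card f.ker ≤ Nat.card (S.O l) :=
      Nat.card_le_card_of_injective (fun x => (⟨((x : S.O (l + 1)) : G), (x : S.O (l + 1)).2.1,
        x.2⟩ : S.O l)) fun a b hab => Subtype.ext (Subtype.ext (by
          simpa using congrArg Subtype.val hab))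
    have hcard : Nat.card (S.O (l + 1)) = Nat.card f.range * Nat.card f.ker := by
      rw [← index_ker, mul_comm, card_mul_index]
    refine ⟨?_, fun hle => ?_⟩
    · rw [hcard, ← S.ecard]
      refine Nat.mul_le_mul (Subgroup.card_le_of_le ?_) hker
      rintro _ ⟨x, rfl⟩
      exact S.mem_E _ (pow_mem x.2.1 _) (by
        show ((x : G) ^ p ^ l) ^ p = 1
        rw [← pow_mul, ← pow_succ]; exact x.2.2)
    · rw [hcard]
      refine Nat.mul_le_mul ((Subgroup.card_le_of_le ?_).trans S.card_C.le) hker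
      rintro _ ⟨x, rfl⟩
      exact (hle x.2).2
  have hOl : ∀ l, Nat.card (S.O l) ≤ p ^ (2 * l) := by
    intro l
    induction l with
    | zero =>
      have : S.O 0 = ⊥ := (Subgroup.eq_bot_iff_forall _).mpr fun x hx => S.mem_O_zero hx
      simp [this]
    | succ l ih =>
      rw [show 2 * (l + 1) = 2 + 2 * l by ring, pow_add]
      exact (hcardO l).1.trans (Nat.mul_le_mul le_rfl ih)
  refine ⟨hn2, fun hbot => ?_⟩
  by_cases htop' : S.K ≤ S.O r
  · obtain ⟨x, hx, hxP⟩ := SetLike.not_le_iff_exists.mp (Nat.find_min hex (show m < r by omega))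
    have hne := S.chain h hg m x hx hxP 0 (mem_top x)
    have hle : p ^ n ≤ p ^ (2 * r + 1) := by
      rw [← hKcard, pow_succ]
      exact Nat.mul_le_mul_right p ((Subgroup.card_le_of_le htop').trans (hOl r))
    have := (Nat.pow_le_pow_iff_right hp.out.one_lt).mp hle
    exact hne (le_bot_iff.mp (hbot ▸ Subgroup.lowerCentralSeries_antitone ⊤ (by omega)))
  · obtain ⟨x, hxK, hxO⟩ := SetLike.not_le_iff_exists.mp htop'
    have hxP : x ∈ S.P r := hrspec (htop hxK)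
    rw [hm] at hxP hxO
    obtain ⟨hx1, hiff⟩ := S.R4 hxP g
    have hne' : ⁅g, x ^ p ^ m⁆ ∉ S.C := S.move h hg hx1 (fun hE => hxO ⟨hxK, by
      rw [pow_succ, pow_mul]; exact S.pow_E _ hE⟩)
    have hne := S.chain h hg m _ (S.R3 hxP g) (fun hP => hne' (hiff.mp hP)) 1
      (comm_mem_lcs (mem_top x))
    have hle : p ^ n ≤ p ^ (2 * r + 1 + 1) := by
      rw [← hKcard, pow_succ, pow_succ']
      exact Nat.mul_le_mul_right p (((Subgroup.card_le_of_le htop).trans ((hcardO r).2 hrspec)).trans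
        (Nat.mul_le_mul le_rfl (hOl r)))
    have := (Nat.pow_le_pow_iff_right hp.out.one_lt).mp hle
    exact hne (le_bot_iff.mp (hbot ▸ Subgroup.lowerCentralSeries_antitone ⊤ (by omega)))

/-! ### The metacyclic case -/

theorem no_T0_three (h3 : p = 3) (h : S.TZero)
    (hroot : ∀ a : G, a ∉ S.K → ∃ k ∈ S.K, k ^ p = a ^ p)
    (hne : ∀ a : G, a ∉ S.K → a ^ p ≠ 1) : ∀ l, ∀ a : G, a ∉ S.K → a ^ p ∉ S.O l := by
  have key : ∀ (N : Subgroup G) [N.Normal] (a k : G), a ∉ S.K → k ∈ S.K → k ^ p = a ^ p →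
      ⁅a, ⁅a, k⁻¹⁆⁆ ∈ N → ⁅k⁻¹, ⁅a, k⁻¹⁆⁆ ∈ N → ⁅a, k⁻¹⁆ ^ p ∈ N →
      k⁻¹ * a ∉ S.K ∧ (k⁻¹ * a) ^ p ∈ N := by
    intro N _ a k ha hk hka h1 h2 h3'
    refine ⟨fun hh => ha (by simpa using mul_mem hk hh), ?_⟩
    subst h3
    rw [← QuotientGroup.eq_one_iff, ← QuotientGroup.mk'_apply, map_pow, map_mul]
    set q := QuotientGroup.mk' N
    have hz : ∀ {v : G}, v ∈ N → q v = 1 := fun hv => (QuotientGroup.eq_one_iff _).mpr hv
    rw [cube_mul (d := q ⁅a, k⁻¹⁆)
      (by rw [← map_inv, ← map_mul, ← map_mul, ← map_mul, conj_eq])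
      (by rw [← commutatorElement_eq_one_iff_commute, ← map_commutatorElement]; exact hz h1)
      ((commutatorElement_eq_one_iff_commute.mp (by
        rw [← map_commutatorElement]; exact hz h2)).symm),
      ← map_pow, hz h3', one_mul, ← map_pow, ← map_pow, ← map_mul, inv_pow, hka, inv_mul_cancel,
      map_one]
  intro l
  induction l with
  | zero => exact fun a ha hO => hne a ha (S.mem_O_zero hO)
  | succ l ih =>
    have hB : ∀ a : G, a ∉ S.K → a ^ p ∉ S.P l := by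
      intro a ha hP
      obtain ⟨k, hk, hka⟩ := hroot a ha
      have hkP : k⁻¹ ∈ S.P (l + 1) := inv_mem ⟨hk, by
        rw [pow_succ', pow_mul, hka]; exact hP.2⟩
      have hd : ⁅a, k⁻¹⁆ ∈ S.P l := by
        obtain ⟨hx', hiff⟩ := S.R4 hkP a
        exact hiff.mpr (h a _ hx')
      have hd3 : ⁅a, k⁻¹⁆ ^ p ∈ S.O l := ⟨pow_mem hd.1 _, by
        rw [← pow_mul, ← pow_succ']; exact (S.P_le_O l hd).2⟩
      obtain ⟨h1, h2⟩ := key (S.O l) a k ha hk hka (S.R3 hd a) (S.R3 hd _) hd3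
      exact ih _ h1 h2
    intro a ha hO
    obtain ⟨k, hk, hka⟩ := hroot a ha
    have hkO : k⁻¹ ∈ S.O (l + 2) := inv_mem ⟨hk, by
      rw [pow_succ', pow_mul, hka]; exact hO.2⟩
    have hd : ⁅a, k⁻¹⁆ ∈ S.P (l + 1) := S.R1 hkO a
    have hdg : ∀ g : G, ⁅g, ⁅a, k⁻¹⁆⁆ ∈ S.P l := fun g => by
      obtain ⟨hx', hiff⟩ := S.R4 hd g
      exact hiff.mpr (h g _ hx')
    have hd3 : ⁅a, k⁻¹⁆ ^ p ∈ S.P l := ⟨pow_mem hd.1 _, by
      rw [← pow_mul, ← pow_succ']; exact hd.2⟩
    obtain ⟨h1, h2⟩ := key (S.P l) a k ha hk hka (hdg a) (hdg _) hd3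
    exact hB _ h1 h2

/-- If all elements of order `p` lie in `E`: metacyclic, or maximal class. -/
theorem metacyclic_or (hne : ∀ a : G, a ∉ S.K → a ^ p ≠ 1) :
    Cfsg.IsMetacyclic G ∨ (p = 3 ∧ ¬ S.TZero) := by
  rcases lt_or_ge 3 p with hp3 | hp3
  · refine Or.inl (CfsgLib.OddOrder.BG4.isMetacyclic_of_card_pow_eq_one hp3 S.hG ?_)
    rw [← S.ecard]
    refine Nat.card_le_card_of_injective (fun x => (⟨x.1, S.mem_E _ (by
      by_contra hh; exact hne _ hh x.2) x.2⟩ : S.E)) fun a b hab => Subtype.ext (by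
        simpa using congrArg Subtype.val hab)
  have h3 : p = 3 := by
    have := hp.out.two_le; have := S.hp2; omega
  by_cases h : S.TZero
  · refine Or.inl ?_
    by_cases hroot : ∀ a : G, a ∉ S.K → ∃ k ∈ S.K, k ^ p = a ^ p
    · exfalso
      obtain ⟨g, hg⟩ : ∃ g, g ∉ S.K := by
        by_contra hh
        push Not at hh
        have := S.index_eq
        rw [show centralizer (S.E : Set G) = (⊤ : Subgroup G) from top_unique fun x _ => hh x,
          index_top] at this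
        exact hp.out.ne_one this.symm
      obtain ⟨k, hk, hka⟩ := hroot g hg
      obtain ⟨l, hl⟩ := S.exists_mem_O (pow_mem hk p)
      exact S.no_T0_three h3 h hroot hne l g hg (hka ▸ hl)
    push Not at hroot
    obtain ⟨a, ha, hk⟩ := hroot
    set M := (CfsgLib.OddOrder.BG4.agemo p S.K).map S.K.subtype with hM
    set A := CfsgLib.OddOrder.BG4.agemo p G with hA
    have hMA : M ≤ A := by
      rw [hM, map_le_iff_le_comap, CfsgLib.OddOrder.BG4.agemo, closure_le]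
      rintro _ ⟨k, rfl⟩
      exact CfsgLib.OddOrder.BG4.pow_mem_agemo (k : G)
    have hMidx : M.index ≤ p ^ 2 * p := by
      rw [hM, index_map_subtype]
      exact Nat.mul_le_mul S.index_agemo S.index_eq.le
    refine CfsgLib.OddOrder.BG4.isMetacyclic_of_agemo S.hp2 S.hG ?_
    have hlt : A.index < p ^ (2 + 1) := by
      refine lt_of_lt_of_le ?_ (hMidx.trans_eq (pow_succ p 2).symm)
      rw [← relIndex_mul_index hMA]
      have h1 : M.relIndex A ≠ 1 := fun e => by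
        obtain ⟨k, hk', hka⟩ := S.exists_root (relIndex_eq_one.mp e
          (CfsgLib.OddOrder.BG4.pow_mem_agemo a))
        exact hk k hk' hka
      have h2 : M.relIndex A ≠ 0 := by
        simpa [relIndex] using index_ne_zero_of_finite (H := M.subgroupOf A)
      exact lt_mul_of_one_lt_left (Nat.pos_of_ne_zero index_ne_zero_of_finite) (by omega)
    obtain ⟨j, hj⟩ := IsPGroup.index S.hG A
    rw [hj] at hlt ⊢
    exact Nat.pow_le_pow_right hp.out.pos
      (by have := (Nat.pow_lt_pow_iff_right hp.out.one_lt).mp hlt; omega)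
  · exact Or.inr ⟨h3, h⟩

end Setup

end CfsgLib.RankTwoOdd
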