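import Cfsg.Agent.RankTwoOdd.TZero

/-!
# Iterates of conjugation by an element acting by a short unipotent chain
-/

namespace CfsgLib.RankTwoOdd

open Subgroup
open scoped commutatorElement

variable {Q : Type*} [Group Q]

/-- Iterated conjugation along a chain `y ↦ d y`, `d ↦ e d`, `e ↦ f e`, `f ↦ f`. -/
theorem pow_twist {a y d e f : Q} (hy : a * y * a⁻¹ = d * y) (hd : a * d * a⁻¹ = e * d)
    (he : a * e * a⁻¹ = f * e) (hf : Commute a f) (hde : Commute d e) (hdf : Commute d f)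
    (hef : Commute e f) (m : ℕ) :
    a ^ m * y * (a ^ m)⁻¹ = d ^ m * e ^ m.choose 2 * f ^ m.choose 3 * y := by
  induction m with
  | zero => simp [Nat.choose]
  | succ m ih =>
    have e1 : a ^ (m + 1) * y * (a ^ (m + 1))⁻¹ = a * (a ^ m * y * (a ^ m)⁻¹) * a⁻¹ := by
      rw [pow_succ']; group
    have e2 : a * f * a⁻¹ = f := by rw [hf.eq, mul_inv_cancel_right]
    rw [e1, ih, ← conj_mul, ← conj_mul, ← conj_mul, ← conj_pow, ← conj_pow, ← conj_pow, hd, he,
      e2, hy, hde.symm.mul_pow, hef.symm.mul_pow, Nat.choose_succ_succ' m 1,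
      Nat.choose_succ_succ' m 2, Nat.choose_one_right, pow_add e, pow_add f, pow_succ d]
    -- reorder commuting factors
    have c1 : Commute (e ^ m) (d ^ m) := (hde.symm.pow_pow m m)
    have c2 : Commute (f ^ m.choose 2) (e ^ m.choose 2) := hef.symm.pow_pow _ _
    have c3 : Commute (e ^ m) d := hde.symm.pow_left m
    have c4 : Commute (e ^ m.choose 2) d := hde.symm.pow_left _
    have c5 : Commute (f ^ m.choose 2) d := hdf.symm.pow_left _
    have c6 : Commute (f ^ m.choose 3) d := hdf.symm.pow_left _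
    simp only [← mul_assoc]
    rw [c1.eq]
    simp only [mul_assoc]
    congr 1
    rw [← mul_assoc (f ^ m.choose 2), c2.eq]
    simp only [mul_assoc]
    rw [← mul_assoc (f ^ m.choose 3) d, c6.eq, mul_assoc, ← mul_assoc (f ^ m.choose 2) d,
      c5.eq, mul_assoc, ← mul_assoc (e ^ m.choose 2) d, c4.eq, mul_assoc, ← mul_assoc (e ^ m) d,
      c3.eq, mul_assoc]

/-- Iterated conjugation with a quadratic correction. -/
theorem pow_twist' {a h d c : Q} {p : ℕ} {i : ℤ} (hh : a * h * a⁻¹ = d * h)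
    (hd : a * d * a⁻¹ = d ^ (1 + (p : ℤ) * i) * c) (hc : Commute a c) (hdc : Commute d c) (m : ℕ) :
    ∃ Z W : ℤ, a ^ m * h * (a ^ m)⁻¹ =
      d ^ ((m : ℤ) + p * i * m.choose 2 + (p : ℤ) ^ 2 * Z) * c ^ ((m.choose 2 : ℤ) + p * W) * h := by
  induction m with
  | zero => exact ⟨0, 0, by simp⟩
  | succ m ih =>
    obtain ⟨Z, W, ih⟩ := ih
    refine ⟨i ^ 2 * m.choose 2 + Z + p * i * Z, W + i * m.choose 2 + p * Z, ?_⟩
    set S : ℤ := (m : ℤ) + p * i * m.choose 2 + (p : ℤ) ^ 2 * Z with hS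
    set T : ℤ := (m.choose 2 : ℤ) + p * W with hT
    have e1 : a ^ (m + 1) * h * (a ^ (m + 1))⁻¹ = a * (a ^ m * h * (a ^ m)⁻¹) * a⁻¹ := by
      rw [pow_succ']; group
    rw [e1, ih, ← conj_mul, ← conj_mul, ← conj_zpow, ← conj_zpow, hd, hh, hc.eq,
      mul_inv_cancel_right, (hdc.zpow_left _).mul_zpow, ← zpow_mul, mul_assoc (_ * c ^ S) (c ^ T),
      mul_assoc (d ^ _) (c ^ S), ← mul_assoc (c ^ S) (c ^ T), ← zpow_add, ← mul_assoc (c ^ (S + T)) d,
      ((hdc.symm.zpow_left (S + T)) : Commute (c ^ (S + T)) d).eq, mul_assoc d, ← mul_assoc (d ^ _) d,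
      ← zpow_add_one, ← mul_assoc]
    congr 2
    · congr 1
      rw [hS, Nat.choose_succ_succ' m 1, Nat.choose_one_right]
      push_cast
      ring
    · rw [hS, hT, Nat.choose_succ_succ' m 1, Nat.choose_one_right]
      push_cast
      congr 1
      ring

end CfsgLib.RankTwoOdd
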